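import Mathlib

/-!
# Groups whose nonabelian subgroups are self-normalizing (helper74, for S4073): definitions

* `SN G`   : every nonabelian subgroup of `G` is self-normalizing.
* `IsCT G` : commuting is transitive on the nonidentity elements of `G`.
* `NAN X`  : every nonabelian normal subgroup of `X` is `⊤`.
-/

set_option autoImplicit false

namespace Cfsg.Agent.Helper74.SNG

/-- Every nonabelian subgroup is self-normalizing. -/
def SN (G : Type*) [Group G] : Prop :=
  ∀ H : Subgroup G, ¬ IsMulCommutative H → Subgroup.normalizer (H : Set G) = H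

/-- Commuting is transitive on the nonidentity elements. -/
def IsCT (G : Type*) [Group G] : Prop :=
  ∀ a b c : G, a ≠ 1 → b ≠ 1 → c ≠ 1 → Commute a b → Commute b c → Commute a c

/-- Every nonabelian normal subgroup is the whole group. -/
def NAN (X : Type*) [Group X] : Prop :=
  ∀ J : Subgroup X, J.Normal → ¬ IsMulCommutative J → J = ⊤

section basic

variable {G : Type*} [Group G]

/-- A subgroup is commutative iff its elements commute pairwise. -/
theorem isMulCommutative_iff (H : Subgroup G) :
    IsMulCommutative H ↔ ∀ a ∈ H, ∀ b ∈ H, a * b = b * a := by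
  constructor
  · intro h a ha b hb
    have := h.is_comm.comm (⟨a, ha⟩ : H) ⟨b, hb⟩
    exact congrArg Subtype.val this
  · intro h
    exact ⟨⟨fun a b => Subtype.ext (h a.1 a.2 b.1 b.2)⟩⟩

theorem not_isMulCommutative_iff (H : Subgroup G) :
    ¬ IsMulCommutative H ↔ ∃ a ∈ H, ∃ b ∈ H, a * b ≠ b * a := by
  rw [isMulCommutative_iff]
  push Not
  rfl

/-- Commutativity of the whole group, elementwise. -/
theorem isMulCommutative_type_iff : IsMulCommutative G ↔ ∀ a b : G, a * b = b * a :=
  ⟨fun h a b => h.is_comm.comm a b, fun h => ⟨⟨h⟩⟩⟩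

/-- A subgroup of a commutative subgroup is commutative. -/
theorem isMulCommutative_mono {H K : Subgroup G} (h : H ≤ K) (hK : IsMulCommutative K) :
    IsMulCommutative H := by
  rw [isMulCommutative_iff] at hK ⊢
  exact fun a ha b hb => hK a (h ha) b (h hb)

/-- In an `SN`-group, a nonabelian subgroup `H` contains every subgroup `K` normalizing it. -/
theorem SN.le_of_le_normalizer (h : SN G) {H K : Subgroup G} (hH : ¬ IsMulCommutative H)
    (hK : K ≤ Subgroup.normalizer (H : Set G)) : K ≤ H := by
  rw [h H hH] at hK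
  exact hK

/-- In an `SN`-group, a subgroup that is normalized by a subgroup not contained in it is abelian. -/
theorem SN.comm_of_normalizer (h : SN G) {H : Subgroup G} {g : G}
    (hg : g ∈ Subgroup.normalizer (H : Set G)) (hgH : g ∉ H) : IsMulCommutative H := by
  by_contra hH
  rw [h H hH] at hg
  exact hgH hg

/-- In an `SN`-group, a proper normal subgroup is abelian. -/
theorem SN.comm_of_normal (h : SN G) (N : Subgroup G) [N.Normal] (hN : N ≠ ⊤) :
    IsMulCommutative N := by
  by_contra hH
  have h1 := h N hH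
  rw [Subgroup.normalizer_eq_top] at h1
  exact hN h1.symm

/-- `SN` passes to subgroups. -/
theorem SN.subgroup (h : SN G) (K : Subgroup G) : SN K := by
  intro H hH
  apply le_antisymm _ Subgroup.le_normalizer
  intro k hk
  have hH' : ¬ IsMulCommutative (H.map K.subtype) := by
    rw [not_isMulCommutative_iff] at hH ⊢
    obtain ⟨a, ha, b, hb, hab⟩ := hH
    refine ⟨a, Subgroup.mem_map_of_mem _ ha, b, Subgroup.mem_map_of_mem _ hb, ?_⟩
    intro hc
    apply hab
    exact Subtype.ext hc
  have h1 := h _ hH'
  have h2 : (k : G) ∈ Subgroup.normalizer ((H.map K.subtype : Subgroup G) : Set G) := by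
    rw [Subgroup.mem_normalizer_iff] at hk ⊢
    intro x
    constructor
    · rintro ⟨y, hy, rfl⟩
      exact ⟨k * y * k⁻¹, (hk y).mp hy, rfl⟩
    · rintro ⟨z, hz, hzx⟩
      have hxK : x ∈ K := by
        have : x = (k : G)⁻¹ * (z : G) * (k : G) := by
          rw [show (K.subtype z : G) = (z : G) from rfl] at hzx
          rw [hzx]; group
        rw [this]
        exact K.mul_mem (K.mul_mem (K.inv_mem k.2) z.2) k.2
      refine ⟨⟨x, hxK⟩, ?_, rfl⟩
      have : k * ⟨x, hxK⟩ * k⁻¹ = z := Subtype.ext (by simpa using hzx.symm)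
      exact (hk ⟨x, hxK⟩).mpr (this ▸ hz)
  rw [h1] at h2
  obtain ⟨y, hy, hyk⟩ := h2
  have : y = k := Subtype.ext hyk
  rw [← this]
  exact hy

/-- `SN` passes to quotients. -/
theorem SN.quotient (h : SN G) (N : Subgroup G) [N.Normal] : SN (G ⧸ N) := by
  intro H hH
  apply le_antisymm _ Subgroup.le_normalizer
  intro k hk
  obtain ⟨g, rfl⟩ := QuotientGroup.mk'_surjective N k
  have hH' : ¬ IsMulCommutative (H.comap (QuotientGroup.mk' N)) := by
    rw [not_isMulCommutative_iff] at hH ⊢
    obtain ⟨a, ha, b, hb, hab⟩ := hH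
    obtain ⟨a, rfl⟩ := QuotientGroup.mk'_surjective N a
    obtain ⟨b, rfl⟩ := QuotientGroup.mk'_surjective N b
    refine ⟨a, ha, b, hb, ?_⟩
    intro hc
    apply hab
    rw [← map_mul, ← map_mul, hc]
  have h1 := h _ hH'
  have h2 : g ∈ Subgroup.normalizer ((H.comap (QuotientGroup.mk' N) : Subgroup G) : Set G) := by
    rw [Subgroup.mem_normalizer_iff] at hk ⊢
    intro x
    rw [Subgroup.mem_comap, Subgroup.mem_comap, hk (QuotientGroup.mk' N x)]
    simp only [map_mul, map_inv]
  rw [h1] at h2
  exact h2

/-- `SN` is invariant under isomorphism. -/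
theorem SN.of_mulEquiv {G' : Type*} [Group G'] (e : G ≃* G') (h : SN G) : SN G' := by
  intro H hH
  apply le_antisymm _ Subgroup.le_normalizer
  intro k hk
  have hH' : ¬ IsMulCommutative (H.comap e.toMonoidHom) := by
    rw [not_isMulCommutative_iff] at hH ⊢
    obtain ⟨a, ha, b, hb, hab⟩ := hH
    refine ⟨e.symm a, by simpa using ha, e.symm b, by simpa using hb, ?_⟩
    intro hc
    apply hab
    have := congrArg e hc
    simpa using this
  have h1 := h _ hH'
  have h2 : e.symm k ∈ Subgroup.normalizer ((H.comap e.toMonoidHom : Subgroup G) : Set G) := by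
    rw [Subgroup.mem_normalizer_iff] at hk ⊢
    intro x
    rw [Subgroup.mem_comap, Subgroup.mem_comap, hk (e.toMonoidHom x)]
    simp
  rw [h1] at h2
  simpa using h2

/-- `IsCT` is invariant under isomorphism. -/
theorem IsCT.of_mulEquiv {G' : Type*} [Group G'] (e : G ≃* G') (h : IsCT G) : IsCT G' := by
  intro a b c ha hb hc hab hbc
  have key : ∀ x : G', x ≠ 1 → e.symm x ≠ 1 := by
    intro x hx h1
    apply hx
    have := congrArg e h1
    simpa using this
  have h1 : Commute (e.symm a) (e.symm b) := by
    show e.symm a * e.symm b = e.symm b * e.symm a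
    rw [← map_mul, ← map_mul, hab.eq]
  have h2 : Commute (e.symm b) (e.symm c) := by
    show e.symm b * e.symm c = e.symm c * e.symm b
    rw [← map_mul, ← map_mul, hbc.eq]
  have h3 := h _ _ _ (key a ha) (key b hb) (key c hc) h1 h2
  show a * c = c * a
  apply e.symm.injective
  rw [map_mul, map_mul]
  exact h3.eq

/-- `IsCT` passes to subgroups. -/
theorem IsCT.subgroup (h : IsCT G) (K : Subgroup G) : IsCT K := by
  intro a b c ha hb hc hab hbc
  have key : ∀ x : K, x ≠ 1 → (x : G) ≠ 1 := by
    intro x hx h1
    exact hx (Subtype.ext h1)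
  have h1 : Commute (a : G) (b : G) := congrArg Subtype.val hab.eq
  have h2 : Commute (b : G) (c : G) := congrArg Subtype.val hbc.eq
  exact Subtype.ext (h _ _ _ (key a ha) (key b hb) (key c hc) h1 h2).eq

/-- In a CT-group the centralizer of a nonidentity element is abelian. -/
theorem IsCT.centralizer_comm (h : IsCT G) {x : G} (hx : x ≠ 1) :
    IsMulCommutative (Subgroup.centralizer ({x} : Set G)) := by
  rw [isMulCommutative_iff]
  intro a ha b hb
  by_cases ha1 : a = 1
  · rw [ha1, one_mul, mul_one]
  by_cases hb1 : b = 1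
  · rw [hb1, one_mul, mul_one]
  have h1 : Commute a x := Subgroup.mem_centralizer_singleton_iff.mp ha
  have h2 : Commute x b := (Subgroup.mem_centralizer_singleton_iff.mp hb).symm
  exact (h a x b ha1 hx hb1 h1 h2).eq

/-- Conversely: if all centralizers of nonidentity elements are abelian, the group is CT. -/
theorem isCT_of_centralizer_comm
    (h : ∀ x : G, x ≠ 1 → IsMulCommutative (Subgroup.centralizer ({x} : Set G))) : IsCT G := by
  intro a b c _ hb _ hab hbc
  have h1 := (isMulCommutative_iff _).mp (h b hb)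
  have ha : a ∈ Subgroup.centralizer ({b} : Set G) :=
    Subgroup.mem_centralizer_singleton_iff.mpr hab
  have hc : c ∈ Subgroup.centralizer ({b} : Set G) :=
    Subgroup.mem_centralizer_singleton_iff.mpr hbc.symm
  exact h1 a ha c hc

/-- `NAN` is invariant under isomorphism. -/
theorem NAN.of_mulEquiv {X Y : Type*} [Group X] [Group Y] (e : X ≃* Y) (h : NAN X) : NAN Y := by
  intro J hJ hna
  have hJ' : (J.comap e.toMonoidHom).Normal := hJ.comap _
  have hna' : ¬ IsMulCommutative (J.comap e.toMonoidHom) := by
    rw [not_isMulCommutative_iff] at hna ⊢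
    obtain ⟨a, ha, b, hb, hab⟩ := hna
    refine ⟨e.symm a, by simpa using ha, e.symm b, by simpa using hb, ?_⟩
    intro hc
    apply hab
    have := congrArg e hc
    simpa using this
  have h1 := h _ hJ' hna'
  rw [eq_top_iff]
  intro y _
  have : e.symm y ∈ J.comap e.toMonoidHom := by rw [h1]; trivial
  simpa using this

/-- `NAN` passes to quotients (surjective images). -/
theorem NAN.of_surjective {X Y : Type*} [Group X] [Group Y] (f : X →* Y)
    (hf : Function.Surjective f) (h : NAN X) : NAN Y := by
  intro J hJ hna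
  have hJ' : (J.comap f).Normal := hJ.comap _
  have hna' : ¬ IsMulCommutative (J.comap f) := by
    rw [not_isMulCommutative_iff] at hna ⊢
    obtain ⟨a, ha, b, hb, hab⟩ := hna
    obtain ⟨a, rfl⟩ := hf a
    obtain ⟨b, rfl⟩ := hf b
    refine ⟨a, ha, b, hb, ?_⟩
    intro hc
    apply hab
    rw [← map_mul, ← map_mul, hc]
  have h1 := h _ hJ' hna'
  rw [eq_top_iff]
  intro y _
  obtain ⟨x, rfl⟩ := hf y
  have : x ∈ J.comap f := by rw [h1]; trivial
  exact this

/-- From `NAN` on the normalizer: a nonabelian subgroup `H` with `NAN (normalizer H)` is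
self-normalizing. -/
theorem normalizer_eq_of_NAN (H : Subgroup G) (hH : ¬ IsMulCommutative H)
    (h : NAN (Subgroup.normalizer (H : Set G))) : Subgroup.normalizer (H : Set G) = H := by
  apply le_antisymm _ Subgroup.le_normalizer
  have hn : (H.subgroupOf (Subgroup.normalizer (H : Set G))).Normal :=
    Subgroup.normal_in_normalizer
  have hna : ¬ IsMulCommutative (H.subgroupOf (Subgroup.normalizer (H : Set G))) := by
    rw [not_isMulCommutative_iff] at hH ⊢
    obtain ⟨a, ha, b, hb, hab⟩ := hH
    refine ⟨⟨a, Subgroup.le_normalizer ha⟩, Subgroup.mem_subgroupOf.mpr ha,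
      ⟨b, Subgroup.le_normalizer hb⟩, Subgroup.mem_subgroupOf.mpr hb, ?_⟩
    intro hc
    exact hab (congrArg Subtype.val hc)
  have h1 := h _ hn hna
  intro g hg
  have : (⟨g, hg⟩ : Subgroup.normalizer (H : Set G)) ∈
      H.subgroupOf (Subgroup.normalizer (H : Set G)) := by rw [h1]; trivial
  exact Subgroup.mem_subgroupOf.mp this

end basic

end Cfsg.Agent.Helper74.SNG
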