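/-
SN FARM (helper74): S4073 (10u) = a finite nonabelian simple group has all nonabelian subgroups
self-normalizing iff it is PSL_2(2^n) with n >= 2 and 2^n - 1 prime.

DEFINITIONS (on main, `import Cfsg.Agent.Helper74.SN.Defs`, namespace Cfsg.Agent.Helper74.SNG):
  SN G   : every nonabelian subgroup of G is self-normalizing
  IsCT G : commuting is transitive on G - {1}
  NAN X  : every nonabelian normal subgroup of X is the whole of X
plus: SN.subgroup, SN.quotient, SN.of_mulEquiv, SN.comm_of_normal, SN.comm_of_normalizer,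
IsCT.subgroup, IsCT.of_mulEquiv, IsCT.centralizer_comm, isCT_of_centralizer_comm, NAN.of_mulEquiv,
NAN.of_surjective, normalizer_eq_of_NAN, isMulCommutative_iff, not_isMulCommutative_iff.

PLAN.  (=>)  Show by induction on |G| that a simple nonabelian SN-group is CT (IND); then the landed
S5748 gives G = PSL_2(F), |F| = 2^f, f >= 2; (PR) gives 2^f - 1 prime, (ISO) replaces F by GaloisField.
  Induction step: x of prime order with C = C_G(x) nonabelian.  C = N_G(C).
   * C nilpotent: C is a minimal nonabelian p-group, a Sylow p-subgroup of G and (by (FG)) a maximal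
     subgroup of G: contradiction by Gruen's first theorem (landed S4216)           (CNA) + (CNB)
   * C solvable, not nilpotent: structure theorem (T3): C = K : <y>, <y> a cyclic Sylow s-subgroup,
     s = o(x), x in <y>; then <y> is a Sylow s-subgroup of G with N_G(<y>) = <y>: Burnside   (CT3A) + (CT3B)
   * C not solvable: C is perfect with abelian Sylow subgroups (FG), so Z(C) = 1 by transfer (TR) (CNS)
  (FG): in an SN-group H whose simple nonabelian sections are CT, a Sylow p-subgroup P != H is abelian.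
(<=)  Dickson's list (landed S0799) applied to N = N_G(H): every iso type in the list has NAN.
-/
import Cfsg.Agent.Helper74.SN.Defs
import Cfsg.Agent.S4216
import Cfsg.Agent.S5748
import Cfsg.Agent.S0799
import Cfsg.Agent.S4065
import Cfsg.Agent.Helper5.PSL2Simple
import Cfsg.Agent.Helper74.SN_FS
import Cfsg.Agent.Helper81.SN_ISO
import Cfsg.Agent.Helper63.SN_NIL
import Cfsg.Agent.Helper63.SN_GRU
import Cfsg.Agent.Helper32.SN_TRF
import Cfsg.Agent.Helper32.SN_DIH
import Cfsg.Agent.Helper74.SN_PSL
import Cfsg.Agent.Helper70.SN_PGL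
import Cfsg.Agent.Helper37.SN_PR
import Cfsg.Agent.Helper37.SN_BOR
import Cfsg.Agent.Helper14.SN_T3
import Cfsg.Agent.Helper93.SN_C3BCore
import Cfsg.Agent.Helper93.SN_FG

set_option autoImplicit false
set_option linter.unusedSectionVars false
set_option linter.unusedVariables false
set_option linter.dupNamespace false

namespace Cfsg.Agent.Helper74.SNG.Main

open Cfsg Cfsg.Agent.Helper74.SNG
open Cfsg.Agent.Helper81.SNG (nonempty_PSL2_equiv_galoisField)
open Cfsg.Agent.Helper63.SNG (centralizer_nilpotent_sylow_coatom false_of_sylow_coatom_minNonabelian)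
open Cfsg.Agent.Helper32.SNG (centralizer_solvable NAN_dihedral NAN_A4 not_isCT_S4 NAN_A5)
open Cfsg.Agent.Helper70.SNG (NAN_PGL2_char_two)
open Cfsg.Agent.Helper37.SNG (prime_of_SN_PSL2 NAN_borel)
open Cfsg.Agent.Helper93.SNG (SN.sylow_comm)

universe u

/-! ## A. General lemmas (Mathlib + Defs only) -/









/-! ## B. The three cases for a nonabelian centralizer -/

section Cases

variable {G : Type u} [Group G] [Finite G] [IsSimpleGroup G]




/-- (CT3B) The centralizer of an element of prime order is not solvable-non-nilpotent.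
PROOF: `C = C_G(x)`, `x ∈ Z(C)`, (CT3A) in `C`: `S₀` a Sylow `r`-subgroup of `C`, cyclic, `N_C(S₀) = S₀`,
`x ∈ S₀`.  `S = S₀` in `G`; `S ≤ Q` Sylow in `G`; `Z(Q) ≤ C_G(x) ⊓ Q = S` (as `S` is Sylow in `C`);
`z ∈ Z(Q)` of order `r` lies in the cyclic `S`, so `<z> = <x>`, `x ∈ Z(Q)`, `Q ≤ C`, `Q = S`.
`N_G(S) ≤ N_G(<x>)` (`<x>` is the only subgroup of order `r` of the cyclic `S`) `≤ N_G(C_G(x)) = C`
(`C` nonabelian), so `N_G(S) = N_C(S) = S ≤ C_G(S)`: Burnside
(`MonoidHom.ker_transferSylow_isComplement'`) gives a normal complement, impossible in a simple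
nonabelian group with `1 ≠ S ≠ G`. -/
theorem centralizer_solvable_false (hna : ¬ IsMulCommutative G) (hSN : SN G) (x : G) {r : ℕ}
    [Fact r.Prime] (hxr : orderOf x = r)
    (hsol : Group.IsSolvable (Subgroup.centralizer ({x} : Set G)))
    (hnn : ¬ Group.IsNilpotent (Subgroup.centralizer ({x} : Set G))) : False := by
  exact Cfsg.Agent.Helper93.SNG.C3B_of
    (fun H _ _ _ h hnn' x' hx' r' _ hxr' S =>
      Cfsg.Agent.Helper14.SNG.SN.sylow_of_central_of_solvable h hnn' x' hx' hxr' S)
    hna hSN x hxr hsol hnn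


end Cases

/-! ## C. The induction (assembly, helper74) -/

/-- (IND) A finite simple nonabelian SN-group is a CT-group. -/
theorem isCT_of_SN : ∀ (n : ℕ) (G : Type u) [Group G] [Finite G] [IsSimpleGroup G],
    Nat.card G = n → ¬ IsMulCommutative G → SN G → IsCT G := by
  intro n
  induction n using Nat.strong_induction_on with
  | _ n ih =>
    intro G _ _ _ hcard hna hSN
    have hFG : ∀ K : Subgroup G, K ≠ ⊤ → ∀ (p : ℕ) [Fact p.Prime] (P : Sylow p K),
        (P : Subgroup K) ≠ ⊤ → IsMulCommutative (P : Subgroup K) := by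
      intro K hK p _ P hP
      refine SN.sylow_comm (hSN.subgroup K) ?_ P hP
      intro R _ hsimple hnaQ
      have hlt : Nat.card (K ⧸ R) < n := by
        have h1 : Nat.card (K ⧸ R) ≤ Nat.card K :=
          Nat.card_le_card_of_surjective _ (QuotientGroup.mk'_surjective R)
        have h2 : Nat.card K < Nat.card G := by
          have h3 : Nat.card K ≤ Nat.card G := Subgroup.card_le_card_group K
          rcases h3.lt_or_eq with h | h
          · exact h
          · exact absurd ((Subgroup.card_eq_iff_eq_top K).mp h) hK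
        omega
      haveI := hsimple
      exact ih _ hlt (K ⧸ R) rfl hnaQ ((hSN.subgroup K).quotient R)
    apply isCT_of_centralizer_comm
    intro b hb
    by_contra hCb
    -- a power of `b` of prime order
    have hob : orderOf b ≠ 1 := fun h => hb (orderOf_eq_one_iff.mp h)
    obtain ⟨r, hr, hrb⟩ := Nat.exists_prime_and_dvd hob
    have hob0 : orderOf b ≠ 0 := (orderOf_pos b).ne'
    set x : G := b ^ (orderOf b / r) with hxdef
    have hxr : orderOf x = r := orderOf_pow_orderOf_div hob0 hrb
    have hx1 : x ≠ 1 := by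
      intro h
      rw [h, orderOf_one] at hxr
      exact hr.one_lt.ne hxr
    have hle : Subgroup.centralizer ({b} : Set G) ≤ Subgroup.centralizer ({x} : Set G) := by
      intro g hg
      rw [Subgroup.mem_centralizer_singleton_iff] at hg ⊢
      have : Commute g b := hg
      exact (this.pow_right _).eq
    have hCx : ¬ IsMulCommutative (Subgroup.centralizer ({x} : Set G)) :=
      fun h => hCb (isMulCommutative_mono hle h)
    haveI : Fact r.Prime := ⟨hr⟩
    have hsol := centralizer_solvable hna hSN hFG x hx1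
    by_cases hnil : Group.IsNilpotent (Subgroup.centralizer ({x} : Set G))
    · obtain ⟨p, hp, P, hPC, hmax, hmin⟩ :=
        centralizer_nilpotent_sylow_coatom hna hSN hFG x hx1 hnil hCx
      exact false_of_sylow_coatom_minNonabelian P hmax (hPC ▸ hCx) hmin
    · exact centralizer_solvable_false hna hSN x hxr hsol hnil

/-! ## D. `PSL_2(2^f)`: primality and the field -/



/-! ## E. The converse: Dickson's list -/








/-- every subgroup of a commutative group is commutative, so `NAN` holds vacuously -/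
theorem NAN_of_comm {X : Type*} [Group X] (h : ∀ a b : X, a * b = b * a) : NAN X := by
  intro J _ hna
  exfalso
  apply hna
  rw [isMulCommutative_iff]
  exact fun a _ b _ => h a b

/-- (DA) assembly: `PSL_2(2^n)` with `2^n - 1` prime is an SN-group. -/
theorem SN_PSL2_of_card {F : Type*} [Field F] [Fintype F] (n : ℕ) (hn : 2 ≤ n)
    (hF : Fintype.card F = 2 ^ n) (hp : (2 ^ n - 1).Prime) :
    SN (Matrix.ProjectiveSpecialLinearGroup (Fin 2) F) := by
  intro H hH
  apply normalizer_eq_of_NAN H hH
  have h2 : (2 : F) = 0 := by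
    have h1 := FiniteField.cast_card_eq_zero F
    rw [hF] at h1
    push_cast at h1
    exact pow_eq_zero_iff (by omega) |>.mp h1
  haveI hchar : CharP F 2 := CharTwo.of_one_ne_zero_of_two_eq_zero one_ne_zero h2
  have hCT : IsCT (Matrix.ProjectiveSpecialLinearGroup (Fin 2) F) :=
    fun a b c _ hb _ hab hbc => Cfsg.Agent.S4065.psl_ct a b c hb hab hbc
  have hpow1 : 1 ≤ 2 ^ n := Nat.one_le_two_pow
  have hgcd : Nat.gcd 2 (2 ^ n - 1) = 1 := by
    have hodd : ¬ 2 ∣ 2 ^ n - 1 := by
      have : 2 ∣ 2 ^ n := dvd_pow_self 2 (by omega)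
      omega
    exact (Nat.Prime.coprime_iff_not_dvd Nat.prime_two).mpr hodd
  rcases Cfsg.Agent.S0799.result hF 2 (Subgroup.normalizer (H : Set _)) with
    ⟨k, hk, hN⟩ | ⟨P, K, hK, ⟨e⟩⟩ | ⟨⟨e⟩⟩ | ⟨⟨e⟩⟩ | ⟨⟨e⟩⟩ | ⟨K, hKf, hKt, m, hm, hN⟩
  · rcases hN with ⟨hcyc, -⟩ | ⟨⟨e⟩⟩
    · apply NAN_of_comm
      intro a b
      obtain ⟨g, hg⟩ := hcyc.exists_generator
      obtain ⟨i, rfl⟩ := Subgroup.mem_zpowers_iff.mp (hg a)
      obtain ⟨j, rfl⟩ := Subgroup.mem_zpowers_iff.mp (hg b)
      rw [← zpow_add, ← zpow_add, add_comm]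
    · have hodd : Odd k := by
        rw [hgcd, Nat.div_one, Nat.div_one] at hk
        rw [← Nat.not_even_iff_odd, even_iff_two_dvd]
        intro h2k
        have : 2 ∣ 2 ^ n := dvd_pow_self 2 (by omega)
        rcases hk with hk | hk
        · have := h2k.trans hk; omega
        · have := h2k.trans hk; omega
      exact NAN.of_mulEquiv e.symm (NAN_dihedral hodd)
  · exact NAN.of_mulEquiv e.symm (NAN_borel n hn hF hp P K hK)
  · exact NAN.of_mulEquiv e.symm NAN_A4
  · exfalso
    exact not_isCT_S4 (IsCT.of_mulEquiv e (hCT.subgroup _))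
  · exact NAN.of_mulEquiv e.symm NAN_A5
  · obtain ⟨k, hk⟩ : ∃ k, @Fintype.card K hKt = 2 ^ k := by
      have hm0 : m ≠ 0 := by
        intro h0
        rw [h0, pow_zero] at hm
        have : 2 ^ n ≥ 2 ^ 2 := Nat.pow_le_pow_right (by norm_num) hn
        omega
      have hdvd : @Fintype.card K hKt ∣ 2 ^ n := by
        rw [← hm]
        exact dvd_pow_self _ hm0
      obtain ⟨k, -, hk⟩ := (Nat.dvd_prime_pow Nat.prime_two).mp hdvd
      exact ⟨k, hk⟩
    rcases hN with ⟨⟨e⟩⟩ | ⟨⟨e⟩⟩
    · exact NAN.of_mulEquiv e.symm (NAN_PSL2_char_two k hk)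
    · exact NAN.of_mulEquiv e.symm (NAN_PGL2_char_two k hk)

/-! ## F. The theorem -/

/-- S4073 -/
theorem s4073 {G : Type*} [Group G] [Finite G] [IsSimpleGroup G]
    (hna : ¬ IsMulCommutative G) :
    (∀ H : Subgroup G, ¬ IsMulCommutative H → Subgroup.normalizer (H : Set G) = H) ↔
    ∃ n : ℕ, 2 ≤ n ∧ (2 ^ n - 1).Prime ∧
      Nonempty (G ≃* Matrix.ProjectiveSpecialLinearGroup (Fin 2) (GaloisField 2 n)) := by
  constructor
  · intro hSN
    have hSN' : SN G := hSN
    have hCT := isCT_of_SN (Nat.card G) G rfl hna hSN'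
    obtain ⟨F, hF, hFt, f, hf2, hcard, ⟨e⟩⟩ := (Cfsg.Agent.S5748.result hna).mp hCT
    have hSNF : SN (Matrix.ProjectiveSpecialLinearGroup (Fin 2) F) := hSN'.of_mulEquiv e
    have hprime := prime_of_SN_PSL2 f hf2 hcard hSNF
    obtain ⟨e'⟩ := nonempty_PSL2_equiv_galoisField f (by omega) hcard
    exact ⟨f, hf2, hprime, ⟨e.trans e'⟩⟩
  · rintro ⟨n, hn, hp, ⟨e⟩⟩
    haveI : Fintype (GaloisField 2 n) := Fintype.ofFinite _
    have hcard : Fintype.card (GaloisField 2 n) = 2 ^ n := by
      rw [← Nat.card_eq_fintype_card]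
      exact GaloisField.card 2 n (by omega)
    exact (SN_PSL2_of_card n hn hcard hp).of_mulEquiv e.symm

end Cfsg.Agent.Helper74.SNG.Main
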